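import Cfsg.Agent.H354.Fx4.Lin
import Cfsg.Agent.H242.StrP.FCLin

/-!
# `NoEv (PSL_4(q))`, `q` odd, `q ≥ 5`, `q ≠ 9` (for S3002)
-/

set_option autoImplicit false
set_option linter.style.haveILetI false

namespace Cfsg.Agent.H354.Fx4

open Matrix Subgroup Cfsg.Agent.H254.Ev
open Cfsg.Agent.H104.RowPSL
open Cfsg.Agent.H998.StrP (NoSP)

section

variable {F : Type} [Field F] {n : ℕ}

/-- diagonal matrices of determinant 1 -/
theorem exists_dia {d : Fin n → F} (hd : ∏ i, d i = 1) :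
    ∃ A : SpecialLinearGroup (Fin n) F, (A : Matrix (Fin n) (Fin n) F) = diagonal d :=
  ⟨⟨diagonal d, by rw [det_diagonal, hd]⟩, rfl⟩

theorem prod_three (hn : 3 ≤ n) (a b c : F) :
    ∏ i : Fin n, (if (i : ℕ) = 0 then a else if (i : ℕ) = 1 then b else if (i : ℕ) = 2 then c else 1) = a * b * c := by
  obtain ⟨m, rfl⟩ : ∃ m, n = 3 + m := ⟨n - 3, by omega⟩
  rw [Fin.prod_univ_add, Fin.prod_univ_three]
  have h1 : ∀ i : Fin m, ((Fin.natAdd 3 i : Fin (3 + m)) : ℕ) = 3 + i := fun i => rfl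
  have h2 : ∏ i : Fin m, (if ((Fin.natAdd 3 i : Fin (3 + m)) : ℕ) = 0 then a else
      if ((Fin.natAdd 3 i : Fin (3 + m)) : ℕ) = 1 then b else
      if ((Fin.natAdd 3 i : Fin (3 + m)) : ℕ) = 2 then c else 1) = 1 := by
    apply Finset.prod_eq_one
    intro i _
    rw [h1]
    rw [if_neg (by omega), if_neg (by omega), if_neg (by omega)]
  rw [h2, mul_one]
  simp

/-- Sylow `r`-subgroups of `PSL_n(q)`, `n ≥ 3`, `r ∣ q - 1`, `r ∤ n`, are not cyclic -/
theorem not_cyclic [Finite F] (hn : 3 ≤ n) {r : ℕ} [hr : Fact r.Prime] (hrn : ¬ r ∣ n) {ζ : Fˣ}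
    (hζ : orderOf ζ = r) : ¬ ∀ P : Sylow r (ProjectiveSpecialLinearGroup (Fin n) F), IsCyclic ↥P := by
  intro h
  have hζr : (ζ : F) ^ r = 1 := by rw [← Units.val_pow_eq_pow_val, ← hζ, pow_orderOf_eq_one, Units.val_one]
  have hζi : ((ζ⁻¹ : Fˣ) : F) ^ r = 1 := by
    rw [← Units.val_pow_eq_pow_val, inv_pow, ← hζ, pow_orderOf_eq_one]; simp
  have hζm : (ζ : F) * ((ζ⁻¹ : Fˣ) : F) = 1 := by simp
  obtain ⟨d₁, hd₁⟩ : ∃ d : Fin n → F, d = fun i : Fin n => if (i : ℕ) = 0 then (ζ : F) else if (i : ℕ) = 1 then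
    ((ζ⁻¹ : Fˣ) : F) else if (i : ℕ) = 2 then 1 else 1 := ⟨_, rfl⟩
  obtain ⟨d₂, hd₂⟩ : ∃ d : Fin n → F, d = fun i : Fin n => if (i : ℕ) = 0 then 1 else if (i : ℕ) = 1 then
    (ζ : F) else if (i : ℕ) = 2 then ((ζ⁻¹ : Fˣ) : F) else 1 := ⟨_, rfl⟩
  have hd₁r : d₁ ^ r = 1 := by
    funext i
    rw [hd₁]
    simp only [Pi.pow_apply, Pi.one_apply]
    split_ifs <;> simp [hζr]
  have hd₂r : d₂ ^ r = 1 := by
    funext i
    rw [hd₂]
    simp only [Pi.pow_apply, Pi.one_apply]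
    split_ifs <;> simp [hζr]
  obtain ⟨X₁, hX₁⟩ := exists_dia (d := d₁) (by rw [hd₁, prod_three hn, hζm, mul_one])
  obtain ⟨X₂, hX₂⟩ := exists_dia (d := d₂) (by rw [hd₂, prod_three hn, one_mul, hζm])
  have hX₁r : X₁ ^ r = 1 := by
    apply Subtype.ext
    exact (Matrix.SpecialLinearGroup.coe_pow X₁ r).trans (by rw [hX₁, diagonal_pow, hd₁r]; exact diagonal_one)
  have hX₂r : X₂ ^ r = 1 := by
    apply Subtype.ext
    exact (Matrix.SpecialLinearGroup.coe_pow X₂ r).trans (by rw [hX₂, diagonal_pow, hd₂r]; exact diagonal_one)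
  have hc : X₁ * X₂ = X₂ * X₁ := by
    apply Subtype.ext
    change (X₁ : Matrix (Fin n) (Fin n) F) * (X₂ : Matrix (Fin n) (Fin n) F) =
      (X₂ : Matrix (Fin n) (Fin n) F) * (X₁ : Matrix (Fin n) (Fin n) F)
    rw [hX₁, hX₂, diagonal_mul_diagonal, diagonal_mul_diagonal]
    congr 1
    funext i
    exact mul_comm _ _
  obtain ⟨x₁, hx₁⟩ : ∃ x, x = QuotientGroup.mk' (center (SpecialLinearGroup (Fin n) F)) X₁ := ⟨_, rfl⟩
  obtain ⟨x₂, hx₂⟩ : ∃ x, x = QuotientGroup.mk' (center (SpecialLinearGroup (Fin n) F)) X₂ := ⟨_, rfl⟩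
  have hne : ∀ k : ℕ, x₁ ^ k * x₂ ≠ 1 := by
    intro k hk
    rw [hx₁, hx₂, ← map_pow, ← map_mul, mk_eq_one_iff] at hk
    obtain ⟨c, hcn, hc⟩ := hk
    have h1 : (diagonal d₁) ^ k * diagonal d₂ = scalar (Fin n) c := by
      rw [← hc, ← hX₁, ← hX₂]
      rfl
    rw [diagonal_pow, diagonal_mul_diagonal, scalar_apply] at h1
    have h2 := congrFun (congrFun h1 ⟨2, by omega⟩) ⟨2, by omega⟩
    rw [diagonal_apply_eq, diagonal_apply_eq, hd₁, hd₂] at h2
    simp only [Pi.pow_apply] at h2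
    norm_num at h2
    apply hrn
    rw [← hζ]
    apply orderOf_dvd_of_pow_eq_one
    rw [← _root_.inv_inj, ← inv_pow, inv_one]
    apply Units.ext
    rw [Units.val_pow_eq_pow_val, Units.val_one, ← hcn, ← h2]
    simp
  have hx₁1 : x₁ ≠ 1 := by
    intro h1
    rw [hx₁, mk_eq_one_iff] at h1
    obtain ⟨c, hcn, hc⟩ := h1
    have h1 : diagonal d₁ = scalar (Fin n) c := by rw [← hX₁, hc]
    rw [scalar_apply] at h1
    have h2 := congrFun (congrFun h1 ⟨2, by omega⟩) ⟨2, by omega⟩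
    have h3 := congrFun (congrFun h1 ⟨0, by omega⟩) ⟨0, by omega⟩
    rw [diagonal_apply_eq, diagonal_apply_eq, hd₁] at h2 h3
    norm_num at h2 h3
    rw [← h2] at h3
    have h4 : ζ = 1 := Units.ext h3
    rw [h4, orderOf_one] at hζ
    exact hr.out.one_lt.ne hζ
  have hx₁o : orderOf x₁ = r := orderOf_eq_prime (by rw [hx₁, ← map_pow, hX₁r, map_one]) hx₁1
  have hx₂r : x₂ ^ r = 1 := by rw [hx₂, ← map_pow, hX₂r, map_one]
  have hcx : x₁ * x₂ = x₂ * x₁ := by rw [hx₁, hx₂, ← map_mul, ← map_mul, hc]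
  obtain ⟨A, hA⟩ : ∃ A, A = closure ({x₁, x₂} : Set (ProjectiveSpecialLinearGroup (Fin n) F)) := ⟨_, rfl⟩
  have hAc : IsMulCommutative A := by
    rw [hA]
    apply isMulCommutative_closure
    rintro a (rfl | rfl) b (rfl | rfl)
    · rfl
    · exact hcx
    · exact hcx.symm
    · rfl
  have hAr : ∀ a ∈ A, a ^ r = 1 := by
    intro a ha
    have : a ∈ A ∧ a ^ r = 1 := by
      rw [hA] at ha
      induction ha using Subgroup.closure_induction with
      | mem y hy =>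
        refine ⟨hA ▸ subset_closure hy, ?_⟩
        rcases hy with rfl | rfl
        · rw [← hx₁o, pow_orderOf_eq_one]
        · exact hx₂r
      | one => exact ⟨one_mem _, one_pow _⟩
      | mul a b _ _ ha hb =>
        refine ⟨mul_mem ha.1 hb.1, ?_⟩
        have h1 : Commute a b := by
          have := hAc.is_comm.comm ⟨a, ha.1⟩ ⟨b, hb.1⟩
          exact congrArg Subtype.val this
        rw [h1.mul_pow, ha.2, hb.2, one_mul]
      | inv a _ ha => exact ⟨inv_mem ha.1, by rw [inv_pow, ha.2, inv_one]⟩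
    exact this.2
  have : Finite (ProjectiveSpecialLinearGroup (Fin n) F) := Quotient.finite _
  have h1 := Cfsg.Agent.H45.Thin.card_le_of_cyclic hr.out h hAr
  have h2 : zpowers x₁ = A := by
    apply Subgroup.eq_of_le_of_card_ge
    · rw [zpowers_le, hA]
      exact subset_closure (by simp)
    · rw [Nat.card_zpowers, hx₁o]; exact h1
  have h3 : x₂⁻¹ ∈ zpowers x₁ := by
    rw [h2, hA]
    exact inv_mem (subset_closure (by simp))
  rw [← mem_powers_iff_mem_zpowers] at h3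
  obtain ⟨k, hk⟩ := h3
  apply hne k
  have hk' : x₁ ^ k = x₂⁻¹ := hk
  rw [hk', inv_mul_cancel]

theorem exists_zeta [Fintype F] {r : ℕ} [hr : Fact r.Prime] (h : r ∣ Fintype.card F - 1) :
    ∃ ζ : Fˣ, orderOf ζ = r := by
  apply exists_prime_orderOf_dvd_card'
  rw [Nat.card_units, Nat.card_eq_fintype_card]
  exact h

/-- `r ∣ q - 1`, `r ∤ n`, `n ≥ 3`: no strongly `r`-embedded subgroup -/
theorem noSP_split [Fintype F] (hn : 3 ≤ n) {r : ℕ} [hr : Fact r.Prime] (h5 : 5 ≤ r) (hrn : ¬ r ∣ n)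
    (hd : r ∣ Fintype.card F - 1) : NoSP r (ProjectiveSpecialLinearGroup (Fin n) F) := by
  obtain ⟨ζ, hζ⟩ := exists_zeta hd
  have : Finite (ProjectiveSpecialLinearGroup (Fin n) F) := Quotient.finite _
  obtain ⟨s, hs⟩ := CharP.exists F
  have hsp : Fact s.Prime := ⟨CharP.char_is_prime F s⟩
  have hrs : r ≠ s := by
    rintro rfl
    obtain ⟨m, -, hm⟩ := FiniteField.card F r
    have h1 : r ∣ Fintype.card F := by rw [hm]; exact dvd_pow_self r m.pos.ne'
    have h2 : r ∣ 1 := by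
      have h3 := (Nat.dvd_sub h1 hd)
      have h4 : Fintype.card F - (Fintype.card F - 1) = 1 := by
        have := Fintype.card_pos (α := F)
        omega
      rwa [h4] at h3
    exact hr.out.one_lt.ne' (Nat.dvd_one.1 h2)
  have hsim : IsSimpleGroup (ProjectiveSpecialLinearGroup (Fin n) F) :=
    Cfsg.Agent.H242.StrP.FC.simple_psl (by omega) (by omega)
  exact Cfsg.Agent.H242.StrP.LinAll.noSP_psl (p := r) (r := s) (by omega) hrs (by omega) (by omega)
    (Cfsg.Agent.H242.StrP.FC.not_comm_psl hsim)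
    (MulEquiv.refl _) (not_cyclic hn hrn hζ) (by omega)

/-- `r = char F`, `n ≥ 3` -/
theorem noSP_char [Finite F] (hn : 3 ≤ n) {p : ℕ} [hp : Fact p.Prime] [CharP F p] :
    NoSP p (ProjectiveSpecialLinearGroup (Fin n) F) := by
  obtain ⟨m, rfl⟩ : ∃ m, n = m + 1 := ⟨n - 1, by omega⟩
  have : Finite (ProjectiveSpecialLinearGroup (Fin (m + 1)) F) := Quotient.finite _
  exact Cfsg.Agent.H818.StrP.Own.noSP_equiv (Cfsg.Agent.H818.StrP.Own.hasRGD2_PSL m (by omega))
    (MulEquiv.refl _)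

theorem exists_prime_of_pow {a : ℕ} (ha : 3 ≤ a) : ∃ r : ℕ, r.Prime ∧ 5 ≤ r ∧ r ∣ 3 ^ a - 1 := by
  by_contra hc
  push Not at hc
  have h27 : 27 ≤ 3 ^ a := by
    calc 27 = 3 ^ 3 := by norm_num
      _ ≤ 3 ^ a := Nat.pow_le_pow_right (by norm_num) ha
  have h1 : ∀ {d : ℕ}, d.Prime → d ∣ 3 ^ a - 1 → d = 2 := by
    intro d hd hda
    have h2 : ¬ 5 ≤ d := fun h => hc d hd h hda
    have h3 := hd.two_le
    have h4 : d ≠ 3 := by
      rintro rfl
      have h5 : 3 ∣ 3 ^ a := dvd_pow_self 3 (by omega)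
      omega
    have h5 : d ≠ 4 := by
      rintro rfl
      exact absurd hd (by norm_num)
    omega
  have h2 := Nat.eq_prime_pow_of_unique_prime_dvd (by omega) h1
  obtain ⟨k, hk⟩ : ∃ k, k = (3 ^ a - 1).primeFactorsList.length := ⟨_, rfl⟩
  rw [← hk] at h2
  have hk4 : 4 ≤ k := by
    by_contra hlt
    have : 2 ^ k ≤ 2 ^ 3 := Nat.pow_le_pow_right (by norm_num) (by omega)
    omega
  have h16 : 16 ∣ 3 ^ a - 1 := by
    rw [h2]
    exact pow_dvd_pow 2 hk4
  have hmod : 3 ^ a % 16 = 1 := by omega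
  obtain ⟨c, d, hd, rfl⟩ : ∃ c d, d < 4 ∧ a = 4 * c + d := ⟨a / 4, a % 4, Nat.mod_lt _ (by norm_num), by omega⟩
  have h81 : 3 ^ (4 * c) % 16 = 1 := by
    rw [pow_mul, Nat.pow_mod]
    norm_num
  have hd0 : d = 0 := by
    rw [pow_add, Nat.mul_mod, h81, one_mul] at hmod
    interval_cases d
    · rfl
    · norm_num at hmod
    · norm_num at hmod
    · norm_num at hmod
  subst hd0
  have h80 : 5 ∣ 3 ^ (4 * c + 0) - 1 := by
    have h3 := Nat.sub_dvd_pow_sub_pow 81 1 c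
    rw [one_pow] at h3
    rw [add_zero, pow_mul]
    exact dvd_trans (by norm_num) h3
  exact hc 5 (by norm_num) le_rfl h80

/-- **no proper subgroup of `PSL_n(q)`, `n = 3, 4`, with `FixLE 4` contains an involution, if `q` is
odd, `q ≠ 3, 9`** -/
theorem no_inv_psl [Fintype F] (hn : 3 ≤ n) (hn4 : n ≤ 4) (h5 : 5 ≤ Fintype.card F)
    (ho : Odd (Fintype.card F)) (h9 : Fintype.card F ≠ 9)
    {H : Subgroup (ProjectiveSpecialLinearGroup (Fin n) F)} (h : FixLE 4 H) (hH : H ≠ ⊤)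
    {t : ProjectiveSpecialLinearGroup (Fin n) F} (htH : t ∈ H) (ht : orderOf t = 2) : False := by
  have : Finite (ProjectiveSpecialLinearGroup (Fin n) F) := Quotient.finite _
  have hsim : IsSimpleGroup (ProjectiveSpecialLinearGroup (Fin n) F) :=
    Cfsg.Agent.H242.StrP.FC.simple_psl (by omega) (by omega)
  have ht2 : t ^ 2 = 1 := by rw [← ht, pow_orderOf_eq_one]
  have ht1 : t ≠ 1 := by
    rintro rfl
    rw [orderOf_one] at ht
    omega
  obtain ⟨p, hp⟩ := CharP.exists F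
  have hpp : Fact p.Prime := ⟨CharP.char_is_prime F p⟩
  obtain ⟨a, -, ha⟩ := FiniteField.card F p
  have hp2 : p ≠ 2 := by
    rintro rfl
    rw [ha] at ho
    exact (Nat.not_odd_iff_even.2 ((Nat.even_pow.2 ⟨even_two, a.pos.ne'⟩))) ho
  have key : ∀ r : ℕ, r.Prime → 5 ≤ r → NoSP r (ProjectiveSpecialLinearGroup (Fin n) F) →
      (∃ x : ProjectiveSpecialLinearGroup (Fin n) F, orderOf x = r ∧ x * t = t * x) → False := by
    rintro r hr hr5 hno ⟨x, hx, hxt⟩
    have hxH : x ∈ H := h.mem_of_comm le_rfl htH ht1 hxt (by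
      rw [hx]; exact Cfsg.Agent.H254.Fx.coprime_six_of_prime hr hr5)
    refine h.false_of_noSP le_rfl hH hr hr5 ?_ hno
    rw [← hx, ← Subgroup.orderOf_mk x hxH]
    exact orderOf_dvd_natCard _
  by_cases hp3 : p = 3
  · subst hp3
    have ha3 : 3 ≤ (a : ℕ) := by
      have := a.pos
      by_contra hlt
      obtain ⟨b, hb⟩ : ∃ b : ℕ, b = a := ⟨_, rfl⟩
      rw [← hb] at ha this hlt
      interval_cases b
      · rw [ha] at h5
        norm_num at h5
      · rw [ha] at h9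
        norm_num at h9
    obtain ⟨r, hr, hr5, hrd⟩ := exists_prime_of_pow ha3
    rw [← ha] at hrd
    have : Fact r.Prime := ⟨hr⟩
    have hrn : ¬ r ∣ n := by
      intro h1
      have := Nat.le_of_dvd (by omega) h1
      omega
    obtain ⟨ζ, hζ⟩ := exists_zeta hrd
    exact key r hr hr5 (noSP_split hn hr5 hrn hrd) (exists_comm_split hn hrn hζ ht2 ht1)
  · have hp5 : 5 ≤ p := by
      have h1 := hpp.out.two_le
      have h4 : p ≠ 4 := by
        rintro rfl
        exact absurd hpp.out (by norm_num)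
      omega
    exact key p hpp.out hp5 (noSP_char hn) (exists_comm_char hn ht2 ht1)

/-- **`PSL_4(q)`** -/
theorem noEv_psl4 (F : Type) [Field F] [Fintype F] (h5 : 5 ≤ Fintype.card F) (ho : Odd (Fintype.card F))
    (h9 : Fintype.card F ≠ 9) : NoEv (Matrix.ProjectiveSpecialLinearGroup (Fin 4) F) := by
  rintro H hH ⟨t, ht, ht4⟩
  have : Finite (ProjectiveSpecialLinearGroup (Fin 4) F) := Quotient.finite _
  obtain ⟨a, haH, -⟩ := exists_conj_exact (by norm_num) ht4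
  refine no_inv_psl (by norm_num) le_rfl h5 ho h9 hH (ne_top_of_exact (by norm_num) ht4) haH ?_
  rw [← ht]
  have := (MulAut.conj a⁻¹).orderOf_eq t
  simpa using this

end

end Cfsg.Agent.H354.Fx4
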