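import Cfsg.Agent.H354.Fx4.PSLFour
import Cfsg.Agent.LieClassical.SLGen

/-!
# `PSL_3(q)`, `q` odd, `q ≥ 5`: no proper subgroup of even order with `FixLE 4` (for S3002)
-/

set_option autoImplicit false
set_option linter.style.haveILetI false

namespace Cfsg.Agent.H354.Fx4

open Matrix Subgroup Cfsg.Agent.H254.Ev
open Cfsg.Agent.H104.RowPSL
open Cfsg.Agent.H998.StrP (NoSP)
open Cfsg.Agent.LieClassical.SLGen
open scoped commutatorElement

section conj

variable {F : Type} [Field F]

/-- the frame of an involution of determinant 1 in dimension 3 -/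
theorem exists_frame (h2 : (2 : F) ≠ 0) {g : Matrix (Fin 3) (Fin 3) F} (hg : ∀ c : F, g ≠ scalar (Fin 3) c)
    (hgg : g * g = 1) (hdet : g.det = 1) :
    ∃ P : Matrix (Fin 3) (Fin 3) F, P.det = 1 ∧ g * P = P * diagonal ![-1, -1, 1] := by
  obtain ⟨v, hv⟩ := exists_indep hg
  have hggv : ∀ w : Fin 3 → F, g *ᵥ (g *ᵥ w) = w := by
    intro w
    rw [mulVec_mulVec, hgg, one_mulVec]
  obtain ⟨u, hu⟩ : ∃ u, u = v - g *ᵥ v := ⟨_, rfl⟩
  obtain ⟨w, hw⟩ : ∃ w, w = v + g *ᵥ v := ⟨_, rfl⟩
  have hgu : g *ᵥ u = -u := by rw [hu, mulVec_sub, hggv]; abel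
  have hgw : g *ᵥ w = w := by rw [hw, mulVec_add, hggv]; abel
  have huw : LinearIndependent F ![u, w] := by
    rw [LinearIndependent.pair_iff] at hv ⊢
    intro s t hst
    have h1 := hv (s + t) (t - s) (by rw [← hst, hu, hw]; module)
    have h3 : 2 * s = 0 := by linear_combination h1.1 - h1.2
    have h4 : 2 * t = 0 := by linear_combination h1.1 + h1.2
    exact ⟨(mul_eq_zero.1 h3).resolve_left h2, (mul_eq_zero.1 h4).resolve_left h2⟩
  have hc := crossProduct_ne_zero_iff_linearIndependent.2 huw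
  obtain ⟨i, hi⟩ : ∃ i, (crossProduct u w) i ≠ 0 := by
    by_contra hcon
    push Not at hcon
    exact hc (funext hcon)
  obtain ⟨z, hz⟩ : ∃ z : Fin 3 → F, z ⬝ᵥ (crossProduct u w) ≠ 0 :=
    ⟨Pi.single i 1, by rw [single_dotProduct, one_mul]; exact hi⟩
  -- the matrix with columns `y`, `u`, `w`
  have key : ∀ (y : Fin 3 → F) (e : F), g *ᵥ y = e • y → y ⬝ᵥ (crossProduct u w) ≠ 0 →
      ∃ P : Matrix (Fin 3) (Fin 3) F, P.det ≠ 0 ∧ g * P = P * diagonal ![e, -1, 1] := by
    intro y e hy hyd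
    refine ⟨(of ![y, u, w])ᵀ, ?_, ?_⟩
    · rw [det_transpose]
      rw [triple_product_eq_det] at hyd
      exact hyd
    · ext a b
      have e1 : (g * (of ![y, u, w])ᵀ) a b = (g *ᵥ (![y, u, w] b)) a := rfl
      rw [e1, mul_diagonal]
      fin_cases b
      · change (g *ᵥ y) a = y a * e
        rw [hy, Pi.smul_apply, smul_eq_mul, mul_comm]
      · change (g *ᵥ u) a = u a * (-1)
        rw [hgu]; simp
      · change (g *ᵥ w) a = w a * 1
        rw [hgw]; simp
  have key2 : ∀ (e : F), (∃ P : Matrix (Fin 3) (Fin 3) F, P.det ≠ 0 ∧ g * P = P * diagonal ![e, -1, 1]) → e = -1 := by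
    rintro e ⟨P, hP, hgP⟩
    have h1 := congrArg det hgP
    rw [det_mul, det_mul, hdet, one_mul, det_diagonal, Fin.prod_univ_three] at h1
    have h3 : P.det * (e + 1) = 0 := by
      have h4 : P.det = P.det * (e * -1 * 1) := h1
      linear_combination h4
    have h5 := (mul_eq_zero.1 h3).resolve_left hP
    linear_combination h5
  have hex : ∃ P : Matrix (Fin 3) (Fin 3) F, P.det ≠ 0 ∧ g * P = P * diagonal ![-1, -1, 1] := by
    by_cases h1 : (z - g *ᵥ z) ⬝ᵥ (crossProduct u w) = 0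
    · exfalso
      have h3 : (z + g *ᵥ z) ⬝ᵥ (crossProduct u w) ≠ 0 := by
        intro h4
        rw [sub_dotProduct] at h1
        rw [add_dotProduct] at h4
        apply hz
        have h5 : 2 * (z ⬝ᵥ (crossProduct u w)) = 0 := by linear_combination h1 + h4
        exact (mul_eq_zero.1 h5).resolve_left h2
      have h4 := key2 1 (key (z + g *ᵥ z) 1 (by rw [mulVec_add, hggv, one_smul]; abel) h3)
      apply h2
      linear_combination h4
    · exact key (z - g *ᵥ z) (-1) (by rw [mulVec_sub, hggv, neg_one_smul]; abel) h1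
  obtain ⟨P, hP, hgP⟩ := hex
  refine ⟨P * diagonal ![1, 1, (P.det)⁻¹], ?_, ?_⟩
  · rw [det_mul, det_diagonal, Fin.prod_univ_three]
    simp [hP]
  · rw [← mul_assoc, hgP, mul_assoc, mul_assoc, diagonal_mul_diagonal, diagonal_mul_diagonal]
    congr 2
    funext i
    exact mul_comm _ _

/-- `diag(-1,-1,1)` -/
theorem exists_D (F : Type) [Field F] : ∃ D : SpecialLinearGroup (Fin 3) F,
    (D : Matrix (Fin 3) (Fin 3) F) = diagonal ![-1, -1, 1] :=
  exists_dia (by rw [Fin.prod_univ_three]; simp)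

/-- **the involutions of `PSL_3(F)`, `char F ≠ 2`, are conjugate to `diag(-1,-1,1)`** -/
theorem exists_conj_diag (h2 : (2 : F) ≠ 0) {t : ProjectiveSpecialLinearGroup (Fin 3) F} (ht : t ^ 2 = 1)
    (ht1 : t ≠ 1) {D : SpecialLinearGroup (Fin 3) F} (hD : (D : Matrix (Fin 3) (Fin 3) F) = diagonal ![-1, -1, 1]) :
    ∃ a : ProjectiveSpecialLinearGroup (Fin 3) F, a⁻¹ * t * a =
      QuotientGroup.mk' (center (SpecialLinearGroup (Fin 3) F)) D := by
  obtain ⟨g, hg⟩ := QuotientGroup.mk'_surjective (center (SpecialLinearGroup (Fin 3) F)) t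
  have hg2 : QuotientGroup.mk' (center (SpecialLinearGroup (Fin 3) F)) (g ^ 2) = 1 := by
    rw [map_pow, hg, ht]
  rw [mk_eq_one_iff] at hg2
  obtain ⟨l, hl3, hl⟩ := hg2
  have hl' : (g : Matrix (Fin 3) (Fin 3) F) * g = scalar (Fin 3) l := by
    rw [← hl, pow_two]; rfl
  obtain ⟨m, hm⟩ : ∃ m, m = l • (g : Matrix (Fin 3) (Fin 3) F) := ⟨_, rfl⟩
  have hl0 : l ≠ 0 := by
    rintro rfl
    norm_num at hl3
  have hmm : m * m = 1 := by
    rw [hm, smul_mul_smul_comm, hl', scalar_apply, ← smul_one_eq_diagonal, smul_smul]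
    have : l * l * l = 1 := by rw [← hl3]; ring
    rw [this, one_smul]
  have hmd : m.det = 1 := by
    rw [hm, det_smul, g.det_coe, Fintype.card_fin, hl3, mul_one]
  have hms : ∀ c : F, m ≠ scalar (Fin 3) c := by
    intro c hc
    apply ht1
    have h1 : (g : Matrix (Fin 3) (Fin 3) F) = scalar (Fin 3) (l⁻¹ * c) := by
      rw [map_mul, ← hc, hm, scalar_apply, ← smul_one_eq_diagonal, smul_mul_assoc, one_mul, smul_smul,
        inv_mul_cancel₀ hl0, one_smul]
    rw [← hg, mk_eq_one_iff]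
    refine ⟨l⁻¹ * c, ?_, h1⟩
    have h3 := g.det_coe
    rw [h1, scalar_apply, det_diagonal] at h3
    simpa using h3
  obtain ⟨P, hP, hgP⟩ := exists_frame h2 hms hmm hmd
  obtain ⟨Q, hQ⟩ : ∃ Q : SpecialLinearGroup (Fin 3) F, (Q : Matrix (Fin 3) (Fin 3) F) = P := ⟨⟨P, hP⟩, rfl⟩
  obtain ⟨M, hM⟩ : ∃ M : SpecialLinearGroup (Fin 3) F, (M : Matrix (Fin 3) (Fin 3) F) = m := ⟨⟨m, hmd⟩, rfl⟩
  have hMt : QuotientGroup.mk' (center (SpecialLinearGroup (Fin 3) F)) M = t := by
    rw [← hg, ← mul_inv_eq_one, ← map_inv, ← map_mul, mk_eq_one_iff]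
    refine ⟨l, hl3, ?_⟩
    have h1 : (M : Matrix (Fin 3) (Fin 3) F) = scalar (Fin 3) l * g := by
      rw [hM, hm, scalar_apply, ← smul_one_eq_diagonal, smul_mul_assoc, one_mul]
    have h3 : ((M * g⁻¹ : SpecialLinearGroup (Fin 3) F) : Matrix (Fin 3) (Fin 3) F) =
        (M : Matrix (Fin 3) (Fin 3) F) * ((g⁻¹ : SpecialLinearGroup (Fin 3) F) : Matrix (Fin 3) (Fin 3) F) := rfl
    have h4 : (g : Matrix (Fin 3) (Fin 3) F) * ((g⁻¹ : SpecialLinearGroup (Fin 3) F) : Matrix (Fin 3) (Fin 3) F) = 1 := by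
      have h5 : g * g⁻¹ = 1 := mul_inv_cancel g
      exact congrArg Subtype.val h5
    rw [h3, h1, mul_assoc, h4, mul_one]
  refine ⟨QuotientGroup.mk' (center (SpecialLinearGroup (Fin 3) F)) Q, ?_⟩
  rw [← hMt, ← map_inv, ← map_mul, ← map_mul]
  congr 1
  rw [mul_assoc, inv_mul_eq_iff_eq_mul]
  apply Subtype.ext
  change (M : Matrix (Fin 3) (Fin 3) F) * (Q : Matrix (Fin 3) (Fin 3) F) =
    (Q : Matrix (Fin 3) (Fin 3) F) * (D : Matrix (Fin 3) (Fin 3) F)
  rw [hM, hQ, hD, hgP]

end conj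

section nine

variable {F : Type} [Field F]

theorem diag2n_mul_transvection {i j : Fin 3} (hij : i ≠ j) {a : F} (ha : a ≠ 0) (b : F) :
    SpecialLinearGroup.diag2n hij a ha * SpecialLinearGroup.transvection hij b =
      SpecialLinearGroup.transvection hij (a * a * b) * SpecialLinearGroup.diag2n hij a ha := by
  apply smul_ext
  intro v
  simp only [mul_smul, transvection_smul, diag2n_smul]
  ext k
  by_cases hk : k = i
  · subst hk
    simp [hij, hij.symm]
    field_simp
    ring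
  · by_cases hk' : k = j
    · subst hk'
      simp [hk]
    · simp [hk, hk']

theorem commutator_diag2n {i j : Fin 3} (hij : i ≠ j) {a : F} (ha : a ≠ 0) (b : F) :
    ⁅SpecialLinearGroup.diag2n hij a ha, SpecialLinearGroup.transvection hij b⁆ =
      SpecialLinearGroup.transvection hij (a * a * b - b) := by
  rw [commutatorElement_def, diag2n_mul_transvection, mul_assoc (SpecialLinearGroup.transvection hij _),
    mul_inv_cancel, mul_one, Matrix.SpecialLinearGroup.transvection_inv]
  apply smul_ext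
  intro v
  simp only [mul_smul, transvection_smul]
  ext k
  by_cases hk : k = i
  · subst hk
    simp [hij, hij.symm]
    ring
  · simp [hk, hij, hij.symm]

/-- the group generated by two opposite root groups of `SL_3(F)` is perfect -/
theorem perfect_pair (h4 : ∃ a : F, a ≠ 0 ∧ a * a ≠ 1) {i j : Fin 3} (hij : i ≠ j) :
    ∃ Y : Subgroup (SpecialLinearGroup (Fin 3) F), ⁅Y, Y⁆ = Y ∧
      (∀ b : F, SpecialLinearGroup.transvection hij b ∈ Y) ∧
      ∀ d : SpecialLinearGroup (Fin 3) F, (∀ b : F, d * SpecialLinearGroup.transvection hij b =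
        SpecialLinearGroup.transvection hij b * d) → (∀ b : F, d * SpecialLinearGroup.transvection hij.symm b =
        SpecialLinearGroup.transvection hij.symm b * d) → ∀ y ∈ Y, y * d = d * y := by
  obtain ⟨S, hS⟩ : ∃ S : Set (SpecialLinearGroup (Fin 3) F), S =
      {x | ∃ b : F, x = SpecialLinearGroup.transvection hij b ∨ x = SpecialLinearGroup.transvection hij.symm b} := ⟨_, rfl⟩
  have hm1 : ∀ b : F, SpecialLinearGroup.transvection hij b ∈ closure S := fun b =>
    subset_closure (hS ▸ ⟨b, Or.inl rfl⟩)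
  have hm2 : ∀ b : F, SpecialLinearGroup.transvection hij.symm b ∈ closure S := fun b =>
    subset_closure (hS ▸ ⟨b, Or.inr rfl⟩)
  obtain ⟨a, ha, haa⟩ := h4
  have haa' : a * a - 1 ≠ 0 := sub_ne_zero.2 haa
  have haa2 : a ^ 2 - 1 ≠ 0 := by rwa [pow_two]
  have hd1 : SpecialLinearGroup.diag2n hij a ha ∈ closure S := by
    rw [diag2n_decompose]
    exact mul_mem (mul_mem (mul_mem (mul_mem (mul_mem (hm1 _) (hm2 _)) (hm1 _)) (hm1 _)) (hm2 _)) (hm1 _)
  have hd2 : SpecialLinearGroup.diag2n hij.symm a ha ∈ closure S := by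
    rw [diag2n_decompose]
    exact mul_mem (mul_mem (mul_mem (mul_mem (mul_mem (hm2 _) (hm1 _)) (hm2 _)) (hm2 _)) (hm1 _)) (hm2 _)
  refine ⟨closure S, le_antisymm ?_ ?_, hm1, ?_⟩
  · rw [commutator_le]
    intro x hx y hy
    rw [commutatorElement_def]
    exact mul_mem (mul_mem (mul_mem hx hy) (inv_mem hx)) (inv_mem hy)
  · obtain ⟨Z, hZ⟩ : ∃ Z : Subgroup (SpecialLinearGroup (Fin 3) F), Z = ⁅closure S, closure S⁆ := ⟨_, rfl⟩
    rw [← hZ, closure_le]
    intro x hx
    rw [hS] at hx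
    obtain ⟨b, rfl | rfl⟩ := hx
    · have h1 := commutator_diag2n hij ha (b / (a * a - 1))
      have h2 : a * a * (b / (a * a - 1)) - b / (a * a - 1) = b := by field_simp
      rw [h2] at h1
      rw [← h1, hZ]
      exact commutator_mem_commutator hd1 (hm1 _)
    · have h1 := commutator_diag2n hij.symm ha (b / (a * a - 1))
      have h2 : a * a * (b / (a * a - 1)) - b / (a * a - 1) = b := by field_simp
      rw [h2] at h1
      rw [← h1, hZ]
      exact commutator_mem_commutator hd2 (hm2 _)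
  · intro d h1 h2 y hy
    induction hy using Subgroup.closure_induction with
    | mem x hx =>
      rw [hS] at hx
      obtain ⟨b, rfl | rfl⟩ := hx
      · exact (h1 b).symm
      · exact (h2 b).symm
    | one => simp
    | mul a b _ _ ha hb => rw [mul_assoc, hb, ← mul_assoc, ha, mul_assoc]
    | inv a _ ha => rw [inv_mul_eq_iff_eq_mul, ← mul_assoc, ha, mul_assoc, mul_inv_cancel, mul_one]

theorem pow_mem_of_relIndex {G : Type*} [Group G] [Finite G] {H : Subgroup G} {x : G}
    (h : H.relIndex (zpowers x) ≤ 4) : x ^ 12 ∈ H := by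
  have h1 : 0 < H.relIndex (zpowers x) := relIndex_pos' _ _
  have h2 : (H.subgroupOf (zpowers x)).Normal := inferInstance
  have h3 : (⟨x, mem_zpowers x⟩ : zpowers x) ^ (H.subgroupOf (zpowers x)).index ∈ H.subgroupOf (zpowers x) :=
    Subgroup.pow_index_mem _ _
  have h4 : (H.subgroupOf (zpowers x)).index ∣ 12 := by
    have h5 : (H.subgroupOf (zpowers x)).index = H.relIndex (zpowers x) := rfl
    rw [h5]
    revert h h1
    generalize H.relIndex (zpowers x) = n
    intro h h1
    interval_cases n <;> norm_num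
  obtain ⟨c, hc⟩ := h4
  have h5 := pow_mem h3 c
  rw [← pow_mul, ← hc, mem_subgroupOf] at h5
  exact h5

theorem diag2n_pow {i j : Fin 3} (hij : i ≠ j) {a : F} (ha : a ≠ 0) (n : ℕ) :
    SpecialLinearGroup.diag2n hij a ha ^ n = SpecialLinearGroup.diag2n hij (a ^ n) (pow_ne_zero n ha) := by
  apply Subtype.ext
  refine (Matrix.SpecialLinearGroup.coe_pow _ n).trans ?_
  rw [SpecialLinearGroup.diag2n_coe]
  rw [diagonal_pow]
  congr 1
  funext k
  simp only [Pi.pow_apply]
  split_ifs
  · rfl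
  · rw [inv_pow]
  · rw [one_pow]

/-- the case `-1 = ω ^ 12` (`q = 9`) -/
theorem eq_top_of_diag [Finite F] (h4 : ∃ a : F, a ≠ 0 ∧ a * a ≠ 1) (h2 : (2 : F) ≠ 0) {w : F} (hw : w ^ 12 = -1)
    {H : Subgroup (ProjectiveSpecialLinearGroup (Fin 3) F)} (h : FixLE 4 H)
    {D : SpecialLinearGroup (Fin 3) F} (hD : (D : Matrix (Fin 3) (Fin 3) F) = diagonal ![-1, -1, 1])
    (hDH : QuotientGroup.mk' (center (SpecialLinearGroup (Fin 3) F)) D ∈ H) : H = ⊤ := by
  have : Finite (ProjectiveSpecialLinearGroup (Fin 3) F) := Quotient.finite _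
  obtain ⟨π, hπ⟩ : ∃ π, π = QuotientGroup.mk' (center (SpecialLinearGroup (Fin 3) F)) := ⟨_, rfl⟩
  rw [← hπ] at hDH
  have h11 : (-1 : F) ≠ 0 := by simp
  have hw0 : w ≠ 0 := by
    rintro rfl
    norm_num at hw
  have hne11 : (-1 : F) ≠ 1 := by
    intro h1
    apply h2
    linear_combination -h1
  -- `D = δ₀₁`
  have hD' : D = SpecialLinearGroup.diag2n (show (0 : Fin 3) ≠ 1 by decide) (-1 : F) h11 := by
    apply Subtype.ext
    rw [SpecialLinearGroup.diag2n_coe]
    refine hD.trans ?_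
    congr 1
    funext k
    fin_cases k <;> simp
  have hone : ∀ {i j : Fin 3} (hij : i ≠ j), π (SpecialLinearGroup.diag2n hij (-1 : F) h11) ≠ 1 := by
    intro i j hij h1
    rw [hπ, mk_eq_one_iff] at h1
    obtain ⟨c, -, hc⟩ := h1
    rw [SpecialLinearGroup.diag2n_coe, scalar_apply] at hc
    have hk3 : ∀ i j : Fin 3, ∃ k : Fin 3, k ≠ i ∧ k ≠ j := by decide
    obtain ⟨k, hki, hkj⟩ := hk3 i j
    have e1 := congrFun (congrFun hc i) i
    have e2 := congrFun (congrFun hc k) k
    rw [diagonal_apply_eq, diagonal_apply_eq] at e1 e2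
    simp only [if_true] at e1
    rw [if_neg hki, if_neg hkj] at e2
    exact hne11 (e1.trans e2.symm)
  -- torus elements commute with `δ₀₁`
  have hstep : ∀ {i j : Fin 3} (hij : i ≠ j), π (SpecialLinearGroup.diag2n hij (-1 : F) h11) ∈ H := by
    intro i j hij
    have h1 : H.relIndex (zpowers (π (SpecialLinearGroup.diag2n hij w hw0))) ≤ 4 := by
      refine h.relIndex_le (X := zpowers (π D)) (by rwa [zpowers_le]) ?_ ?_
      · rw [Ne, zpowers_eq_bot, hD']
        exact hone _
      · rw [zpowers_le]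
        apply le_normalizer_zpowers
        rw [← map_mul, ← map_mul]
        congr 1
        apply Subtype.ext
        change (SpecialLinearGroup.diag2n hij w hw0).1 * D.1 = D.1 * (SpecialLinearGroup.diag2n hij w hw0).1
        rw [SpecialLinearGroup.diag2n_coe]
        have hD1 : D.1 = diagonal ![-1, -1, 1] := hD
        rw [hD1, diagonal_mul_diagonal, diagonal_mul_diagonal]
        congr 1
        funext k
        exact mul_comm _ _
    have h3 := pow_mem_of_relIndex h1
    rw [← map_pow, diag2n_pow] at h3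
    have h5 : SpecialLinearGroup.diag2n hij (w ^ 12) (pow_ne_zero 12 hw0) =
        SpecialLinearGroup.diag2n hij (-1 : F) h11 := by
      congr 1
    rwa [h5] at h3
  have htr : ∀ (i j : Fin 3) (hij : i ≠ j) (b : F), π (SpecialLinearGroup.transvection hij b) ∈ H := by
    intro i j hij b
    obtain ⟨Y, hY1, hY2, hY3⟩ := perfect_pair h4 hij
    have hsym : SpecialLinearGroup.diag2n hij (-1 : F) h11 = SpecialLinearGroup.diag2n hij.symm (-1 : F) h11 := by
      apply Subtype.ext
      rw [SpecialLinearGroup.diag2n_coe, SpecialLinearGroup.diag2n_coe]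
      congr 1
      funext k
      by_cases hk : k = i
      · subst hk
        simp [hij]
      · simp [hk]
    have h1 : ∀ y ∈ Y, y * SpecialLinearGroup.diag2n hij (-1 : F) h11 =
        SpecialLinearGroup.diag2n hij (-1 : F) h11 * y := by
      apply hY3
      · intro b
        rw [diag2n_mul_transvection]
        congr 2
        ring
      · intro b
        rw [hsym, diag2n_mul_transvection]
        congr 2
        ring
    have h3 : Y.map π ≤ H := by
      refine h.perfect_le' le_rfl (hstep hij) (hone hij) ?_ ?_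
      · rintro _ ⟨y, hy, rfl⟩
        rw [← map_mul, ← map_mul, h1 y hy]
      · rw [← Subgroup.map_commutator, hY1]
    exact h3 ⟨_, hY2 b, rfl⟩
  have h5 : closure (transvections (Fin 3) F) ≤ H.comap π := by
    rw [closure_le]
    rintro _ ⟨i, j, hij, c, rfl⟩
    exact htr i j hij c
  rw [closure_transvections] at h5
  rw [eq_top_iff]
  intro x _
  obtain ⟨y, rfl⟩ := QuotientGroup.mk'_surjective (center (SpecialLinearGroup (Fin 3) F)) x
  have h6 : y ∈ H.comap π := h5 (mem_top y)
  rw [mem_comap, hπ] at h6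
  exact h6

theorem exists_w [Fintype F] (h9 : Fintype.card F = 9) : ∃ w : F, w ^ 12 = -1 := by
  obtain ⟨g, hg⟩ := IsCyclic.exists_generator (α := Fˣ)
  have h8 : orderOf g = 8 := by
    rw [orderOf_eq_card_of_forall_mem_zpowers hg, Nat.card_units, Nat.card_eq_fintype_card, h9]
  refine ⟨g, ?_⟩
  have h1 : g ^ 8 = 1 := by rw [← h8, pow_orderOf_eq_one]
  have h2 : g ^ 4 ≠ 1 := by
    intro h3
    have := orderOf_dvd_of_pow_eq_one h3
    rw [h8] at this
    norm_num at this
  have h3 : (g : F) ^ 8 = 1 := by rw [← Units.val_pow_eq_pow_val, h1, Units.val_one]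
  have h4 : (g : F) ^ 4 ≠ 1 := by
    intro h5
    apply h2
    apply Units.ext
    rw [Units.val_pow_eq_pow_val, h5, Units.val_one]
  have h5 : ((g : F) ^ 4 - 1) * ((g : F) ^ 4 + 1) = 0 := by linear_combination h3
  have h6 := (mul_eq_zero.1 h5).resolve_left (sub_ne_zero.2 h4)
  linear_combination ((g : F) ^ 8) * h6 - h3

/-- **`PSL_3(q)`, `q` odd, `q ≥ 5`** -/
theorem eq_top_psl3_odd (F : Type) [Field F] [Fintype F] (h5 : 5 ≤ Fintype.card F) (ho : Odd (Fintype.card F))
    {H : Subgroup (Matrix.ProjectiveSpecialLinearGroup (Fin 3) F)} (h : FixLE 4 H) (hd : 2 ∣ Nat.card H) : H = ⊤ := by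
  have : Finite (ProjectiveSpecialLinearGroup (Fin 3) F) := Quotient.finite _
  have : Fact (Nat.Prime 2) := ⟨Nat.prime_two⟩
  obtain ⟨⟨t, htH⟩, ht⟩ := exists_prime_orderOf_dvd_card' 2 hd
  rw [Subgroup.orderOf_mk] at ht
  by_contra hH
  by_cases h9 : Fintype.card F = 9
  · have h2 : (2 : F) ≠ 0 := by
      intro h20
      have h3 : ringChar F ∣ 2 := ringChar.dvd (by exact_mod_cast h20)
      have h4 : ringChar F = 2 := by
        rcases (Nat.dvd_prime Nat.prime_two).1 h3 with h4 | h4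
        · exact absurd h4 (CharP.ringChar_ne_one)
        · exact h4
      rw [FiniteField.even_card_iff_char_two, h9] at h4
      omega
    have ht2 : t ^ 2 = 1 := by rw [← ht, pow_orderOf_eq_one]
    have ht1 : t ≠ 1 := by
      rintro rfl
      rw [orderOf_one] at ht
      omega
    obtain ⟨D, hD⟩ := exists_D F
    obtain ⟨a, ha⟩ := exists_conj_diag h2 ht2 ht1 hD
    obtain ⟨w, hw⟩ := exists_w h9
    have h4 : ∃ a : F, a ≠ 0 ∧ a * a ≠ 1 := by
      have hw0 : w ≠ 0 := by
        rintro rfl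
        norm_num at hw
      refine ⟨w, hw0, ?_⟩
      intro h1
      apply h2
      have h3 : w ^ 12 = 1 := by
        calc w ^ 12 = (w * w) ^ 6 := by ring
          _ = 1 := by rw [h1, one_pow]
      rw [hw] at h3
      linear_combination -h3
    have hmem : QuotientGroup.mk' (center (SpecialLinearGroup (Fin 3) F)) D ∈
        H.map (MulAut.conj a⁻¹).toMonoidHom := by
      rw [← ha]
      exact ⟨t, htH, by simp⟩
    have h6 := eq_top_of_diag h4 h2 hw (h.conj a⁻¹) hD hmem
    apply hH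
    rw [eq_top_iff]
    intro x _
    have h7 : a⁻¹ * x * a ∈ H.map (MulAut.conj a⁻¹).toMonoidHom := by rw [h6]; exact mem_top _
    obtain ⟨y, hy, hyx⟩ := h7
    have h8 : a⁻¹ * y * a⁻¹⁻¹ = a⁻¹ * x * a := hyx
    have h10 : y = x := by
      rw [inv_inv] at h8
      exact mul_left_cancel (mul_right_cancel h8)
    exact h10 ▸ hy
  · exact no_inv_psl (by norm_num) (by norm_num) h5 ho h9 h hH htH ht

end nine

end Cfsg.Agent.H354.Fx4
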