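import Cfsg.Agent.H254.FxEvenTI
import Cfsg.Agent.H242.StrP.LinAll
import Cfsg.Agent.H818.StrP.Own
import Cfsg.Agent.H807.Fx.SLTools
import Cfsg.Agent.H45.Thin.Base

/-!
# Involutions of `PSL_n(q)`, `n ≥ 3`, commute with elements of order `p` and with elements of order `r ∣ q - 1`
-/

set_option autoImplicit false
set_option linter.style.haveILetI false

namespace Cfsg.Agent.H354.Fx4

open Matrix Subgroup

section mat

variable {F : Type*} [Field F] {n : ℕ}

/-- `g T + T g`, `T = v φ` -/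
def NN (g : Matrix (Fin n) (Fin n) F) (v φ : Fin n → F) : Matrix (Fin n) (Fin n) F :=
  g * vecMulVec v φ + vecMulVec v φ * g

theorem NN_comm {g : Matrix (Fin n) (Fin n) F} {l : F} (hg : g * g = scalar (Fin n) l) (v φ : Fin n → F) :
    g * NN g v φ = NN g v φ * g := by
  unfold NN
  have h1 : g * (g * vecMulVec v φ) = vecMulVec v φ * g * g := by
    rw [← mul_assoc, hg, mul_assoc, hg]
    exact (Matrix.scalar_commute l (fun r => Commute.all l r) _).eq
  rw [mul_add, add_mul, h1, ← mul_assoc g (vecMulVec v φ) g]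
  abel

theorem NN_eq (g : Matrix (Fin n) (Fin n) F) (v φ : Fin n → F) :
    NN g v φ = vecMulVec (g *ᵥ v) φ + vecMulVec v (φ ᵥ* g) := by
  unfold NN
  rw [mul_vecMulVec, vecMulVec_mul]

theorem NN_sq {g : Matrix (Fin n) (Fin n) F} {l : F} (hg : g * g = scalar (Fin n) l) {v φ : Fin n → F}
    (h0 : φ ⬝ᵥ v = 0) : NN g v φ * NN g v φ = (φ ⬝ᵥ (g *ᵥ v)) • NN g v φ := by
  have h1 : (φ ᵥ* g) ⬝ᵥ v = φ ⬝ᵥ (g *ᵥ v) := (dotProduct_mulVec _ _ _).symm
  have h2 : (φ ᵥ* g) ⬝ᵥ (g *ᵥ v) = 0 := by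
    rw [← dotProduct_mulVec, mulVec_mulVec, hg]
    have : (scalar (Fin n) l) *ᵥ v = l • v := by
      rw [scalar_apply]
      funext i
      rw [mulVec_diagonal]; rfl
    rw [this, dotProduct_smul, h0, smul_zero]
  rw [NN_eq, mul_add, add_mul, add_mul, vecMulVec_mul_vecMulVec, vecMulVec_mul_vecMulVec,
    vecMulVec_mul_vecMulVec, vecMulVec_mul_vecMulVec, h0, h1, h2, zero_smul, zero_smul,
    vecMulVec_zero, vecMulVec_zero, add_zero, zero_add, vecMulVec_smul, vecMulVec_smul, smul_add]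

theorem det_NN {g : Matrix (Fin n) (Fin n) F} {l : F} (hg : g * g = scalar (Fin n) l) {v φ : Fin n → F}
    (h0 : φ ⬝ᵥ v = 0) (b : F) : (1 + b • NN g v φ).det = (1 + b * (φ ⬝ᵥ (g *ᵥ v))) ^ 2 := by
  have h1 : (φ ᵥ* g) ⬝ᵥ v = φ ⬝ᵥ (g *ᵥ v) := (dotProduct_mulVec _ _ _).symm
  have h2 : (φ ᵥ* g) ⬝ᵥ (g *ᵥ v) = 0 := by
    rw [← dotProduct_mulVec, mulVec_mulVec, hg]
    have : (scalar (Fin n) l) *ᵥ v = l • v := by
      rw [scalar_apply]
      funext i
      rw [mulVec_diagonal]; rfl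
    rw [this, dotProduct_smul, h0, smul_zero]
  obtain ⟨U, hU⟩ : ∃ U : Matrix (Fin n) (Fin 2) F, U = of fun i j => ![g *ᵥ v, v] j i := ⟨_, rfl⟩
  obtain ⟨V, hV⟩ : ∃ V : Matrix (Fin 2) (Fin n) F, V = of ![φ, φ ᵥ* g] := ⟨_, rfl⟩
  have h3 : b • NN g v φ = (b • U) * V := by
    rw [smul_mul, NN_eq]
    congr 1
    ext i j
    rw [mul_apply, Fin.sum_univ_two, hU, hV]
    simp [vecMulVec_apply]
  have h4 : V * (b • U) = b • !![φ ⬝ᵥ (g *ᵥ v), 0; 0, φ ⬝ᵥ (g *ᵥ v)] := by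
    rw [Matrix.mul_smul]
    congr 1
    ext i j
    have e : (V * U) i j = (![φ, φ ᵥ* g] i) ⬝ᵥ (![g *ᵥ v, v] j) := by
      rw [hU, hV]; rfl
    rw [e]
    fin_cases i <;> fin_cases j
    · rfl
    · exact h0
    · exact h2
    · exact h1
  rw [h3, det_one_add_mul_comm, h4, det_fin_two]
  simp
  ring

/-- a nonscalar matrix moves some line -/
theorem exists_indep {g : Matrix (Fin n) (Fin n) F} (hg : ∀ c : F, g ≠ scalar (Fin n) c) :
    ∃ v : Fin n → F, LinearIndependent F ![v, g *ᵥ v] := by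
  by_contra hc
  push Not at hc
  obtain ⟨a, ha⟩ := (Matrix.toLin' g).exists_eq_smul_id_of_forall_notLinearIndependent (fun v => by
    rw [toLin'_apply]; exact hc v)
  apply hg a
  apply (Matrix.toLin').injective
  rw [ha]
  ext i j
  simp [toLin'_apply, scalar_apply, mulVec_diagonal]

theorem exists_phi {v w : Fin n → F} (h : LinearIndependent F ![v, w]) (μ : F) :
    ∃ φ : Fin n → F, φ ⬝ᵥ v = 0 ∧ φ ⬝ᵥ w = μ := by
  have h1 : Function.Surjective (of ![v, w] : Matrix (Fin 2) (Fin n) F).mulVecLin := by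
    rw [← LinearMap.range_eq_top]
    apply Submodule.eq_top_of_finrank_eq
    have h2 : (of ![v, w] : Matrix (Fin 2) (Fin n) F).rank = 2 := by
      have := LinearIndependent.rank_matrix (R := F) (M := (of ![v, w] : Matrix (Fin 2) (Fin n) F)) h
      simpa using this
    rw [Matrix.rank] at h2
    rw [h2]; simp
  obtain ⟨φ, hφ⟩ := h1 ![0, μ]
  refine ⟨φ, ?_, ?_⟩
  · have := congrFun hφ 0
    rw [dotProduct_comm]
    exact this
  · have := congrFun hφ 1
    rw [dotProduct_comm]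
    exact this

theorem exists_phi_zero (hn : 3 ≤ n) (v w : Fin n → F) :
    ∃ φ : Fin n → F, φ ≠ 0 ∧ φ ⬝ᵥ v = 0 ∧ φ ⬝ᵥ w = 0 := by
  have h1 : LinearMap.ker (of ![v, w] : Matrix (Fin 2) (Fin n) F).mulVecLin ≠ ⊥ := by
    apply LinearMap.ker_ne_bot_of_finrank_lt
    simp; omega
  obtain ⟨φ, hφ, hφ0⟩ := Submodule.exists_mem_ne_zero_of_ne_bot h1
  rw [LinearMap.mem_ker] at hφ
  refine ⟨φ, hφ0, ?_, ?_⟩
  · have := congrFun hφ 0
    rw [dotProduct_comm]
    exact this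
  · have := congrFun hφ 1
    rw [dotProduct_comm]
    exact this

theorem NN_ne_zero {g : Matrix (Fin n) (Fin n) F} {v φ : Fin n → F} (h : LinearIndependent F ![v, g *ᵥ v])
    (hφ : φ ≠ 0) : NN g v φ ≠ 0 := by
  intro h0
  apply hφ
  funext j
  rw [NN_eq] at h0
  rw [LinearIndependent.pair_iff] at h
  have h1 := h ((φ ᵥ* g) j) (φ j) (by
    funext i
    have h2 := congrFun (congrFun h0 i) j
    simp only [Matrix.add_apply, vecMulVec_apply, Matrix.zero_apply] at h2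
    simp only [Pi.add_apply, Pi.smul_apply, smul_eq_mul, Pi.zero_apply]
    linear_combination h2)
  exact h1.2

theorem NN_ne_one (hn : 3 ≤ n) {g : Matrix (Fin n) (Fin n) F} {v φ : Fin n → F} : NN g v φ ≠ 1 := by
  intro h
  obtain ⟨w, hw, h1, h2⟩ := exists_phi_zero hn φ (φ ᵥ* g)
  apply hw
  have h3 : NN g v φ *ᵥ w = w := by rw [h, one_mulVec]
  rw [NN_eq, add_mulVec, vecMulVec_mulVec, vecMulVec_mulVec, dotProduct_comm φ w, h1,
    dotProduct_comm _ w, h2] at h3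
  rw [← h3]
  simp

end mat

section psl

variable {F : Type} [Field F] {n : ℕ}

open Cfsg.Agent.H104.RowPSL

/-- lift of an element `t` of `PSL_n` with `t ^ 2 = 1 ≠ t` -/
theorem exists_lift {t : ProjectiveSpecialLinearGroup (Fin n) F} (ht : t ^ 2 = 1) (ht1 : t ≠ 1) :
    ∃ g : SpecialLinearGroup (Fin n) F, QuotientGroup.mk' (center _) g = t ∧
      (∀ c : F, (g : Matrix (Fin n) (Fin n) F) ≠ scalar (Fin n) c) ∧
      ∃ l : F, (g : Matrix (Fin n) (Fin n) F) * g = scalar (Fin n) l := by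
  obtain ⟨g, hg⟩ := QuotientGroup.mk'_surjective (center (SpecialLinearGroup (Fin n) F)) t
  refine ⟨g, hg, ?_, ?_⟩
  · intro c hc
    apply ht1
    rw [← hg, mk_eq_one_iff]
    refine ⟨c, ?_, hc⟩
    have h1 := g.det_coe
    rw [hc, scalar_apply, det_diagonal] at h1
    simpa using h1
  · rw [← hg, ← map_pow, mk_eq_one_iff] at ht
    obtain ⟨l, -, hl⟩ := ht
    refine ⟨l, ?_⟩
    rw [← hl, pow_two]; rfl

/-- **an involution of `PSL_n(F)`, `n ≥ 3`, commutes with an element of order `p = char F`** -/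
theorem exists_comm_char (hn : 3 ≤ n) {p : ℕ} [hp : Fact p.Prime] [CharP F p]
    {t : ProjectiveSpecialLinearGroup (Fin n) F} (ht : t ^ 2 = 1) (ht1 : t ≠ 1) :
    ∃ x : ProjectiveSpecialLinearGroup (Fin n) F, orderOf x = p ∧ x * t = t * x := by
  obtain ⟨g, hgt, hns, l, hl⟩ := exists_lift ht ht1
  obtain ⟨v, hv⟩ := exists_indep hns
  obtain ⟨φ, hφ0, h1, h2⟩ := exists_phi_zero hn v ((g : Matrix (Fin n) (Fin n) F) *ᵥ v)
  obtain ⟨N, hN⟩ : ∃ N, N = NN (g : Matrix (Fin n) (Fin n) F) v φ := ⟨_, rfl⟩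
  have hNN : N * N = 0 := by rw [hN, NN_sq hl h1, h2, zero_smul]
  have hN0 : N ≠ 0 := hN ▸ NN_ne_zero hv hφ0
  have hdet : (1 + N).det = 1 := by
    have := det_NN hl h1 1
    rw [h2, mul_zero, add_zero, one_pow, one_smul, ← hN] at this
    exact this
  have hcomm : (g : Matrix (Fin n) (Fin n) F) * N = N * g := by rw [hN]; exact NN_comm hl v φ
  have hpow : ∀ k : ℕ, (1 + N) ^ k = 1 + (k : F) • N := by
    intro k
    induction k with
    | zero => simp
    | succ k ih =>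
      rw [pow_succ, ih, add_mul, one_mul, smul_mul_assoc, mul_add, mul_one, hNN, add_zero, Nat.cast_succ,
        add_smul, one_smul]
      abel
  obtain ⟨X, hX⟩ : ∃ X : SpecialLinearGroup (Fin n) F, (X : Matrix (Fin n) (Fin n) F) = 1 + N :=
    ⟨⟨1 + N, hdet⟩, rfl⟩
  refine ⟨QuotientGroup.mk' (center _) X, orderOf_eq_prime ?_ ?_, ?_⟩
  · rw [← map_pow, mk_eq_one_iff]
    refine ⟨1, one_pow _, ?_⟩
    rw [map_one]
    exact (Matrix.SpecialLinearGroup.coe_pow X p).trans (by rw [hX, hpow, CharP.cast_eq_zero, zero_smul, add_zero])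
  · intro h
    rw [mk_eq_one_iff] at h
    obtain ⟨c, -, hc⟩ := h
    have hc' : 1 + N = scalar (Fin n) c := by rw [← hX, hc]
    have h3 : N = scalar (Fin n) (c - 1) := by
      rw [map_sub, map_one, ← hc']; abel
    have h4 : (scalar (Fin n) (c - 1)) * N = 0 := by rw [← h3]; exact hNN
    rw [scalar_apply, ← smul_one_eq_diagonal, smul_mul_assoc, one_mul] at h4
    rcases smul_eq_zero.1 h4 with h5 | h5
    · apply hN0
      rw [h3, h5, map_zero]
    · exact hN0 h5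
  · rw [← hgt, ← map_mul, ← map_mul]
    congr 1
    apply Subtype.ext
    change (X : Matrix (Fin n) (Fin n) F) * (g : Matrix (Fin n) (Fin n) F) = (g : Matrix (Fin n) (Fin n) F) * (X : Matrix (Fin n) (Fin n) F)
    rw [hX, add_mul, mul_add, one_mul, mul_one, hcomm]

/-- **an involution of `PSL_n(F)`, `n ≥ 3`, commutes with elements of prime order `r ∣ q - 1`, `r ∤ n`** -/
theorem exists_comm_split (hn : 3 ≤ n) {r : ℕ} [hr : Fact r.Prime] (hrn : ¬ r ∣ n) {ζ : Fˣ}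
    (hζ : orderOf ζ = r)
    {t : ProjectiveSpecialLinearGroup (Fin n) F} (ht : t ^ 2 = 1) (ht1 : t ≠ 1) :
    ∃ x : ProjectiveSpecialLinearGroup (Fin n) F, orderOf x = r ∧ x * t = t * x := by
  obtain ⟨g, hgt, hns, l, hl⟩ := exists_lift ht ht1
  obtain ⟨v, hv⟩ := exists_indep hns
  obtain ⟨φ, h1, h2⟩ := exists_phi hv 1
  have hφ0 : φ ≠ 0 := by
    rintro rfl
    simp at h2
  obtain ⟨N, hN⟩ : ∃ N, N = NN (g : Matrix (Fin n) (Fin n) F) v φ := ⟨_, rfl⟩
  have hNN : N * N = N := by rw [hN, NN_sq hl h1, h2, one_smul]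
  have hN0 : N ≠ 0 := hN ▸ NN_ne_zero hv hφ0
  have hN1 : N ≠ 1 := hN ▸ NN_ne_one hn
  have hζr : (ζ : F) ^ r = 1 := by rw [← Units.val_pow_eq_pow_val, ← hζ, pow_orderOf_eq_one, Units.val_one]
  obtain ⟨a, ha⟩ : ∃ a : F, a = ((ζ⁻¹ : Fˣ) : F) ^ 2 := ⟨_, rfl⟩
  obtain ⟨b, hb⟩ : ∃ b : F, b = (ζ : F) ^ n - 1 := ⟨_, rfl⟩
  have hb0 : b ≠ 0 := by
    intro h
    apply hrn
    rw [← hζ]
    apply orderOf_dvd_of_pow_eq_one
    apply Units.ext
    rw [Units.val_pow_eq_pow_val, Units.val_one]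
    rw [hb] at h
    linear_combination h
  have har : a ^ r = 1 := by
    rw [ha, ← pow_mul, mul_comm, pow_mul, ← Units.val_pow_eq_pow_val, inv_pow, ← hζ, pow_orderOf_eq_one]
    simp
  have ha0 : a ≠ 0 := by
    rintro rfl
    rw [zero_pow hr.out.ne_zero] at har
    exact zero_ne_one har
  have hdet : (a • (1 + b • N)).det = 1 := by
    have := det_NN hl h1 b
    rw [h2, mul_one, ← hN] at this
    rw [det_smul, this, Fintype.card_fin, hb, ha, ← pow_mul, add_sub_cancel, ← pow_mul, mul_comm n 2, ← mul_pow]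
    simp
  have hcomm : (g : Matrix (Fin n) (Fin n) F) * N = N * g := by rw [hN]; exact NN_comm hl v φ
  have hpow : ∀ k : ℕ, (1 + b • N) ^ k = 1 + ((1 + b) ^ k - 1) • N := by
    intro k
    induction k with
    | zero => simp
    | succ k ih =>
      rw [pow_succ, ih, add_mul, one_mul, smul_mul_assoc, mul_add, mul_one, mul_smul_comm, hNN]
      module
  obtain ⟨X, hX⟩ : ∃ X : SpecialLinearGroup (Fin n) F, (X : Matrix (Fin n) (Fin n) F) = a • (1 + b • N) :=
    ⟨⟨a • (1 + b • N), hdet⟩, rfl⟩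
  refine ⟨QuotientGroup.mk' (center _) X, orderOf_eq_prime ?_ ?_, ?_⟩
  · rw [← map_pow, mk_eq_one_iff]
    refine ⟨1, one_pow _, ?_⟩
    rw [map_one]
    exact (Matrix.SpecialLinearGroup.coe_pow X r).trans (by
      rw [hX, smul_pow, hpow, har, one_smul, hb, add_sub_cancel, ← pow_mul, mul_comm, pow_mul, hζr, one_pow, sub_self,
        zero_smul, add_zero])
  · intro h
    rw [mk_eq_one_iff] at h
    obtain ⟨c, -, hc⟩ := h
    have hc' : a • (1 + b • N) = scalar (Fin n) c := by rw [← hX, hc]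
    have h3 : N = scalar (Fin n) (b⁻¹ * (a⁻¹ * c - 1)) := by
      have e1 : scalar (Fin n) c = c • (1 : Matrix (Fin n) (Fin n) F) := by
        rw [scalar_apply, smul_one_eq_diagonal]
      have e2 : scalar (Fin n) (b⁻¹ * (a⁻¹ * c - 1)) = (b⁻¹ * (a⁻¹ * c - 1)) • (1 : Matrix (Fin n) (Fin n) F) := by
        rw [scalar_apply, smul_one_eq_diagonal]
      rw [e2, mul_smul, sub_smul, mul_smul, ← e1, ← hc', inv_smul_smul₀ ha0, one_smul, add_sub_cancel_left,
        inv_smul_smul₀ hb0]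
    obtain ⟨d, hd⟩ : ∃ d, d = b⁻¹ * (a⁻¹ * c - 1) := ⟨_, rfl⟩
    rw [← hd] at h3
    have h4 : d • N = N := by
      have : (scalar (Fin n) d) * N = N := by rw [← h3]; exact hNN
      rwa [scalar_apply, ← smul_one_eq_diagonal, smul_mul_assoc, one_mul] at this
    have h5 : (d - 1) • N = 0 := by rw [sub_smul, h4, one_smul, sub_self]
    rcases smul_eq_zero.1 h5 with h6 | h6
    · apply hN1
      rw [h3, sub_eq_zero.1 h6, map_one]
    · exact hN0 h6
  · rw [← hgt, ← map_mul, ← map_mul]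
    congr 1
    apply Subtype.ext
    change (X : Matrix (Fin n) (Fin n) F) * (g : Matrix (Fin n) (Fin n) F) = (g : Matrix (Fin n) (Fin n) F) * (X : Matrix (Fin n) (Fin n) F)
    rw [hX, smul_mul_assoc, mul_smul_comm, add_mul, mul_add, one_mul, mul_one, smul_mul_assoc, mul_smul_comm, hcomm]

end psl

end Cfsg.Agent.H354.Fx4
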